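import Groth.Agent.Lib.DimCut.FibreStalk
import Groth.Agent.Lib.AlgMisc.GeomRegAt
import Groth.Agent.Lib.CMFree.Regular
import Groth.Agent.Lib.Depth.CM

/-!
# Depth of locally free modules on a smooth family
-/

set_option autoImplicit false
set_option backward.isDefEq.respectTransparency false
set_option linter.style.haveILetI false

universe u

open CategoryTheory CategoryTheory.Limits AlgebraicGeometry IsLocalRing RingTheory.Sequence

namespace GrothLib.DepthAlong

/-- Depth of free modules. -/
theorem le_depth_of_free {R M : Type u} [CommRing R] [IsLocalRing R] [IsNoetherianRing R] [AddCommGroup M]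
    [Module R M] [Module.Finite R M] [Module.Free R M] (d : ℕ) (h : (d : ℕ∞) ≤ LocCoh.depth R R) :
    (d : ℕ∞) ≤ LocCoh.depth R M := by
  rcases subsingleton_or_nontrivial M with hM | hM
  · rw [Depth.depth_eq_top_of_subsingleton]; exact le_top
  have hne : ∀ (N : Type u) [AddCommGroup N] [Module R N] [Module.Finite R N] [Nontrivial N],
      maximalIdeal R • (⊤ : Submodule R N) ≠ ⊤ := fun N _ _ _ _ =>
    GrothLib.Depth.smul_top_ne_top (maximalIdeal.isMaximal R).ne_top
  obtain ⟨rs, h1, h2, h3⟩ := (GrothLib.Depth.le_idealDepth_iff_exists _ (hne R) d).1 h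
  exact (GrothLib.Depth.le_idealDepth_iff_exists _ (hne M) d).2
    ⟨rs, h1, h2, ((TensorProduct.rid R M).isWeaklyRegular_congr rs).1 (h3.isWeaklyRegular_lTensor)⟩

/-- Fibres of smooth morphisms have regular local rings. -/
theorem isRegularLocalRing_fiberStalk {X S : Scheme.{u}} (f : X ⟶ S) [Smooth f] (x : X) :
    IsRegularLocalRing (CInt.fiberStalk f x) := by
  haveI : Smooth (f.fiberToSpecResidueField (f x)) := MorphismProperty.pullback_snd _ _ ‹_›
  exact Groth.Agent.Lib.AlgMisc.GeomRegAt.isRegularLocalRing_stalk_of_mem_smoothLocus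
    (k := S.residueField (f x)) (f.fiberToSpecResidueField (f x)) (x := f.asFiber x)
    (by rw [Scheme.Hom.smoothLocus_eq_top]; trivial)

/-- Depth of the total space at points of big fibre dimension. -/
theorem le_depth_stalk_of_smooth {X S : Scheme.{u}} (f : X ⟶ S) [Smooth f] [IsLocallyNoetherian X] (x : X)
    (d : ℕ) (hd : (d : WithBot ℕ∞) ≤ ringKrullDim (CInt.fiberStalk f x)) :
    (d : ℕ∞) ≤ LocCoh.depth (X.presheaf.stalk x) (X.presheaf.stalk x) := by
  haveI := isRegularLocalRing_fiberStalk f x
  refine GrothLib.DimCut.depth_stalk_ge f x d ?_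
  obtain ⟨rs, h1, h2, h3⟩ := GrothLib.CMFree.exists_weaklyRegular_of_isRegularLocalRing (CInt.fiberStalk f x)
  rw [← h3] at hd
  have hd' : d ≤ rs.length := by exact_mod_cast hd
  have hne : maximalIdeal (CInt.fiberStalk f x) • (⊤ : Submodule _ (CInt.fiberStalk f x)) ≠ ⊤ :=
    GrothLib.Depth.smul_top_ne_top (maximalIdeal.isMaximal _).ne_top
  rw [LocCoh.depth, LocCoh.idealDepth, if_neg hne]
  exact le_trans (by exact_mod_cast hd') (le_iSup₂_of_le rs ⟨h1, h2⟩ le_rfl)

end GrothLib.DepthAlong
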