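import Groth.Agent.Lib.DepthFlat.Basic
import Groth.Agent.Lib.Depth.CM
import Groth.Agent.Lib.LenIneqMin
import Groth.Agent.Lib.QuasiFlat.Basic
import Groth.Agent.Lib.QCoh.StalkPullback
import Groth.Prelude.Def_CInt
import Mathlib.AlgebraicGeometry.Morphisms.UniversallyOpen

/-!
# Depth along a closed subset under flat morphisms
-/

set_option autoImplicit false
set_option backward.isDefEq.respectTransparency false
set_option linter.style.haveILetI false

universe u

open CategoryTheory AlgebraicGeometry TopologicalSpace IsLocalRing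
open scoped TensorProduct

namespace GrothLib.DepthAlong

variable {X X' : Scheme.{u}} [IsLocallyNoetherian X] [IsLocallyNoetherian X'] (g : X' ⟶ X) [Flat g]
  (F : X.Modules) (hF : Coh.IsCoh F)

include hF in
/-- The depth of a flat pullback at a point. -/
theorem depth_pullback_stalk (x' : X') :
    letI := (g.stalkMap x').hom.toAlgebra
    LocCoh.depth (X'.presheaf.stalk x') (((Scheme.Modules.pullback g).obj F).presheaf.stalk x') =
      LocCoh.depth (X.presheaf.stalk (g x')) (F.presheaf.stalk (g x')) +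
        LocCoh.depth (X'.presheaf.stalk x')
          (DepthFlat.Fib (X.presheaf.stalk (g x')) (X'.presheaf.stalk x') (X'.presheaf.stalk x')) := by
  letI := (g.stalkMap x').hom.toAlgebra
  haveI : IsLocalHom (algebraMap (X.presheaf.stalk (g x')) (X'.presheaf.stalk x')) :=
    inferInstanceAs (IsLocalHom (g.stalkMap x').hom)
  haveI : Module.Flat (X.presheaf.stalk (g x')) (X'.presheaf.stalk x') := Flat.stalkMap g x'
  haveI : Module.Finite (X.presheaf.stalk (g x')) (F.presheaf.stalk (g x')) := QuasiFlat.finite_stalk F hF (g x')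
  let e : ((OX.stalk x').obj ((Scheme.Modules.pullback g).obj F)) ≅
      (ModuleCat.extendScalars (g.stalkMap x').hom).obj ((OX.stalk (g x')).obj F) := (QCoh.stalkPullbackIso g x').app F
  let el : ((Scheme.Modules.pullback g).obj F).presheaf.stalk x' ≃ₗ[X'.presheaf.stalk x']
      X'.presheaf.stalk x' ⊗[X.presheaf.stalk (g x')] F.presheaf.stalk (g x') := e.toLinearEquiv
  haveI : Module.Finite (X'.presheaf.stalk x') (((Scheme.Modules.pullback g).obj F).presheaf.stalk x') :=
    Module.Finite.equiv el.symm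
  rw [show LocCoh.depth (X'.presheaf.stalk x') (((Scheme.Modules.pullback g).obj F).presheaf.stalk x') =
    LocCoh.depth (X'.presheaf.stalk x') (X'.presheaf.stalk x' ⊗[X.presheaf.stalk (g x')] F.presheaf.stalk (g x'))
    from Depth.idealDepth_eq_of_equiv _ el]
  exact DepthFlat.depth_tensor (R := X.presheaf.stalk (g x')) (S := X'.presheaf.stalk x')
    (N := X'.presheaf.stalk x') (M := F.presheaf.stalk (g x'))

omit [IsLocallyNoetherian X] [IsLocallyNoetherian X'] [Flat g] in
/-- A minimal point of a fibre below a given one. -/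
theorem exists_minimal_fibre_point (x₀ : X') :
    ∃ x' : X', x' ⤳ x₀ ∧ g x' = g x₀ ∧
      ∀ q : PrimeSpectrum (X'.presheaf.stalk x'),
        (maximalIdeal (X.presheaf.stalk (g x'))).map (g.stalkMap x').hom ≤ q.asIdeal →
          q.asIdeal = maximalIdeal (X'.presheaf.stalk x') := by
  have key : ∀ (a : X') (q : Spec (X'.presheaf.stalk a)), g (X'.fromSpecStalk a q) = g a ↔
      (maximalIdeal (X.presheaf.stalk (g a))).map (g.stalkMap a).hom ≤ q.asIdeal := fun a q => by
    rw [← Scheme.Hom.comp_apply, ← Scheme.SpecMap_stalkMap_fromSpecStalk, Scheme.Hom.comp_apply,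
      Ideal.map_le_iff_le_comap]
    have hclosed : X.fromSpecStalk (g a) (closedPoint _) = g a := Scheme.fromSpecStalk_closedPoint
    conv_lhs => rhs; rw [← hclosed]
    rw [(X.fromSpecStalk (g a)).isEmbedding.injective.eq_iff, PrimeSpectrum.ext_iff]
    exact ⟨fun h => h.ge, fun h => ((maximalIdeal.isMaximal _).eq_of_le (Ideal.IsPrime.ne_top inferInstance) h).symm⟩
  obtain ⟨P, hP, -⟩ := Ideal.exists_minimalPrimes_le (J := maximalIdeal (X'.presheaf.stalk x₀))
    (I := (maximalIdeal (X.presheaf.stalk (g x₀))).map (g.stalkMap x₀).hom)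
    (Ideal.map_le_iff_le_comap.mpr (((local_hom_TFAE (g.stalkMap x₀).hom).out 0 4 rfl rfl).mp inferInstance).ge)
  let P' : Spec (X'.presheaf.stalk x₀) := ⟨P, hP.isPrime⟩
  refine ⟨X'.fromSpecStalk x₀ P', Set.ext_iff.mp Scheme.range_fromSpecStalk _ |>.mp ⟨P', rfl⟩,
    (key x₀ P').mpr hP.1.2, fun q hq => ?_⟩
  have hgw := (key _ q).mpr hq
  have hw : X'.fromSpecStalk _ q ⤳ X'.fromSpecStalk x₀ P' := Set.ext_iff.mp Scheme.range_fromSpecStalk _ |>.mp ⟨q, rfl⟩
  obtain ⟨q₀, hq₀⟩ : X'.fromSpecStalk _ q ∈ Set.range (X'.fromSpecStalk x₀) := by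
    rw [Scheme.range_fromSpecStalk]
    exact hw.trans (Set.ext_iff.mp Scheme.range_fromSpecStalk _ |>.mp ⟨P', rfl⟩)
  have h₀ : P ≤ q₀.asIdeal := by
    refine hP.2 ⟨q₀.2, (key x₀ q₀).mp ?_⟩ ?_
    · rw [hq₀, hgw]
      exact (key x₀ P').mpr hP.1.2
    · rw [← hq₀, (X'.fromSpecStalk x₀).isEmbedding.isInducing.specializes_iff, ← PrimeSpectrum.le_iff_specializes] at hw
      exact hw
  have h₁ : q₀.asIdeal ≤ P := by
    rw [← hq₀, (X'.fromSpecStalk x₀).isEmbedding.isInducing.specializes_iff, ← PrimeSpectrum.le_iff_specializes] at hw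
    exact hw
  have heq : q₀ = P' := PrimeSpectrum.ext (le_antisymm h₁ h₀)
  rw [heq] at hq₀
  have hclosed : X'.fromSpecStalk _ (closedPoint (X'.presheaf.stalk (X'.fromSpecStalk x₀ P'))) =
    X'.fromSpecStalk x₀ P' := Scheme.fromSpecStalk_closedPoint
  exact congrArg PrimeSpectrum.asIdeal ((X'.fromSpecStalk _).isEmbedding.injective (hclosed.trans hq₀)).symm

/-- A ring with a single prime over an ideal has closed fibre of depth zero. -/
theorem depth_fib_eq_zero {R S : Type u} [CommRing R] [CommRing S] [IsLocalRing R] [IsLocalRing S]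
    [IsNoetherianRing S] [Algebra R S] [IsLocalHom (algebraMap R S)]
    (h : ∀ q : PrimeSpectrum S, (maximalIdeal R).map (algebraMap R S) ≤ q.asIdeal → q.asIdeal = maximalIdeal S) :
    LocCoh.depth S (DepthFlat.Fib R S S) = 0 := by
  haveI : Nontrivial (DepthFlat.Fib R S S) := by
    refine Submodule.Quotient.nontrivial_iff.2 ?_
    rw [smul_eq_mul, Ideal.mul_top]
    exact ne_top_of_le_ne_top (maximalIdeal.isMaximal S).ne_top
      (((local_hom_TFAE (algebraMap R S)).out 0 2 rfl rfl).1 inferInstance)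
  have hz : Module.supportDim S (DepthFlat.Fib R S S) ≤ 0 := by
    haveI : Subsingleton ↥(Module.support S (DepthFlat.Fib R S S)) := ⟨fun a b => Subtype.ext (PrimeSpectrum.ext ?_)⟩
    · exact Order.krullDim_nonpos_of_subsingleton
    have hs : ∀ a : ↥(Module.support S (DepthFlat.Fib R S S)), a.1.asIdeal = maximalIdeal S := fun a => by
      have ha := (Set.ext_iff.mp (Module.support_quotient
        ((maximalIdeal R).map (algebraMap R S))) a.1).mp a.2
      exact h _ fun t ht => ha.2 (by simpa using ht)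
    rw [hs a, hs b]
  have h' := (GrothLib.Depth.depth_le_supportDim S (DepthFlat.Fib R S S)).trans hz
  rw [← WithBot.coe_zero, WithBot.coe_le_coe, nonpos_iff_eq_zero] at h'
  exact h'

include hF in
/-- Depth along a closed subset is invariant under flat morphisms. -/
theorem depthAlong_pullback (Y : Set X) (y' : X') :
    CInt.depthAlong ((Scheme.Modules.pullback g).obj F) ((fun x => g x) ⁻¹' Y) y' = CInt.depthAlong F Y (g y') := by
  refine le_antisymm (le_iInf ?_) (le_iInf ?_)
  · rintro ⟨z, hzY, hzy⟩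
    obtain ⟨z₀, hz₀, rfl⟩ := Flat.generalizingMap g hzy
    obtain ⟨z', hz', hgz', hmin⟩ := exists_minimal_fibre_point g z₀
    letI := (g.stalkMap z').hom.toAlgebra
    haveI : IsLocalHom (algebraMap (X.presheaf.stalk (g z')) (X'.presheaf.stalk z')) :=
      inferInstanceAs (IsLocalHom (g.stalkMap z').hom)
    have hd := depth_pullback_stalk g F hF z'
    rw [depth_fib_eq_zero hmin, add_zero] at hd
    refine (iInf_le (fun z : {z : X' // z ∈ (fun x => g x) ⁻¹' Y ∧ z ⤳ y'} =>
      LocCoh.depth (X'.presheaf.stalk z.1) (((Scheme.Modules.pullback g).obj F).presheaf.stalk z.1))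
      ⟨z', show g z' ∈ Y from hgz' ▸ hzY, hz'.trans hz₀⟩).trans (le_of_eq ?_)
    refine hd.trans ?_
    exact congrArg (fun p => LocCoh.depth (X.presheaf.stalk p) (F.presheaf.stalk p)) hgz'
  · rintro ⟨z', hzY, hzy⟩
    refine (iInf_le (fun z : {z : X // z ∈ Y ∧ z ⤳ g y'} =>
      LocCoh.depth (X.presheaf.stalk z.1) (F.presheaf.stalk z.1)) ⟨g z', hzY, hzy.map g.continuous⟩).trans ?_
    exact le_self_add.trans (depth_pullback_stalk g F hF z').ge

end GrothLib.DepthAlong
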